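import Groth.Agent.SurfBdd.Vanish
import Groth.Agent.NumTau.Bounded
import Groth.Agent.Bdd.Regular
import Groth.Agent.Bdd.Union
import Groth.Agent.Bdd.Coker

/-!
# Boundedness of classes of bounded degree and square on a surface
-/

set_option autoImplicit false
set_option linter.style.haveILetI false
set_option linter.unusedSectionVars false
set_option backward.isDefEq.respectTransparency false
set_option backward.isDefEq.respectTransparency.types false
set_option maxHeartbeats 1000000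
attribute [-instance] CategoryTheory.catToReflQuiver

universe u

open CategoryTheory CategoryTheory.Limits AlgebraicGeometry TopologicalSpace Opposite
open Groth.Agent.H23.PicMul
open Groth.Agent.RegEpi

noncomputable section

namespace Groth.Agent.SurfBdd

open Groth.Agent Groth.Agent.Big

variable (k : Type u) [Field k] {X : Scheme.{u}} [X.Over (Spec (CommRingCat.of k))]
  [IsProper (X ↘ Spec (CommRingCat.of k))] [IsIntegral X] {n : ℕ} (i : X ⟶ CohB1.ProjSpace n k) [IsClosedImmersion i]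
  (hi : i ≫ CohB1.ProjSpace.toSpec n k = X ↘ Spec (CommRingCat.of k))

include k i in
/-- Bounded degree and square bound the Hilbert polynomial and give a uniform section of a twist of the inverse. -/
theorem exists_numeric [Infinite k] (hdim : topologicalKrullDim X = (2 : ℕ)) (B : ℕ) :
    ∃ (K : ℕ) (t : ℕ) (c5 c2 : ℚ), ∀ L L' : X.Modules, PicF.IsInvertible L → PicF.IsInvertible L' →
      PicF.cl L * PicF.cl L' = 1 → |pair k L (TauNum.O1 i)| ≤ B → -(B : ℚ) ≤ pair k L L →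
        (∃ x y : ℤ, |x| ≤ K ∧ |y| ≤ K ∧ ∀ d : ℕ,
          (Curv2.euler k X (CohB1.tensorMod L (CohB1.tensorPow (TauNum.O1 i) d)) : ℚ) =
            x + (c2 + y) * d + c5 * (d : ℚ) ^ 2) ∧
        0 < h0 k (CohB1.tensorMod L' (CohB1.tensorPow (TauNum.O1 i) t)) := by
  haveI := CurveCohLib.isNoetherian_of_proper (k := k) (X := X)
  have hA := TauNum.isInvertible_O1 i
  have hdim2 : topologicalKrullDim X ≤ ((2 : ℕ) : WithBot ℕ∞) := hdim.le
  obtain ⟨σ, hσ, -⟩ := exists_sections k i hdim 1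
  obtain ⟨c₀, hc₀⟩ := exists_h2_vanish k hdim (NumTau.isAmple_O1 i) (σ 0) (hσ 0)
  obtain ⟨cO, hcO⟩ := exists_quad k hdim2 (CurveDeg.isInvertible_structureModule (X := X)) hA
  have hAA : pair k (TauNum.O1 i) (TauNum.O1 i) = 2 * cO 5 := by
    have h := (pair_eq_of_quad k hdim2 hA CurveDeg.isInvertible_structureModule (hcO.symm k)).2
    simpa [qswap] using h
  have hpos : 0 < cO 5 := by linarith [hAA, pair_self_pos k hdim (NumTau.isAmple_O1 i)]
  set a := pair k (TauNum.O1 i) (TauNum.O1 i)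
  have ha : 0 < a := pair_self_pos k hdim (NumTau.isAmple_O1 i)
  obtain ⟨t₀, ht₀⟩ := exists_nat_gt ((c₀ + B) / a)
  rw [div_lt_iff₀ ha] at ht₀
  obtain ⟨δ, hδ⟩ := exists_nat_gt (B + t₀ * a)
  obtain ⟨b, hb⟩ := exists_h0_bound k i hdim δ
  set R : ℚ := 2 * (b + |cO 0| + |cO 2| * t₀ + |cO 5| * t₀ ^ 2 + B + B * t₀)
  obtain ⟨K, hK⟩ := exists_nat_gt (|cO 0| + 3 * R + B)
  obtain ⟨t, ht₁, ht₂, ht₃⟩ : ∃ t : ℕ, t₀ ≤ t ∧ 1 ≤ t ∧ |cO 0| + 3 * R + B + |cO 2| + 1 < cO 5 * t := by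
    obtain ⟨t, ht⟩ := exists_nat_gt ((|cO 0| + 3 * R + B + |cO 2| + 1) / cO 5)
    rw [div_lt_iff₀ hpos] at ht
    refine ⟨max (max t₀ 1) t, le_trans (le_max_left _ _) (le_max_left _ _), le_trans (le_max_right _ _) (le_max_left _ _), ?_⟩
    have : (t : ℚ) ≤ (max (max t₀ 1) t : ℕ) := Nat.cast_le.2 (le_max_right _ _)
    nlinarith
  refine ⟨K, t, cO 5, cO 2, fun L L' hL hL' hLL' hdeg hsq => ?_⟩
  obtain ⟨c, hc⟩ := exists_quad k hdim2 hL hA
  obtain ⟨e2, e5, e0⟩ := Quad_indep k hdim2 hc hcO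
  obtain ⟨e4, e3⟩ := pair_eq_of_quad k hdim2 hL hA hc
  have hcf : Quad k L' (TauNum.O1 i) (qflip c) := hc.flip k hdim2 hL hA hL' hLL'
  have hχ : ∀ d : ℕ, (Curv2.euler k X (CohB1.tensorMod L (CohB1.tensorPow (TauNum.O1 i) d)) : ℚ) = qf c 1 d :=
    fun d => by
    rw [← Nat.cast_one, ← hc 1 d]
    exact congrArg Int.cast (CurveCohLib.euler_congr (k := k) ((cl_eq_iff.1 (by
      rw [cl_tensor, cl_tensor, cl_tensorPow L, pow_one])).some))
  have hχ' : ∀ d : ℕ, (Curv2.euler k X (CohB1.tensorMod L' (CohB1.tensorPow (TauNum.O1 i) d)) : ℚ) = qf c (-1) d :=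
    fun d => by
    rw [← qf_qflip, ← Nat.cast_one, ← hcf 1 d]
    exact congrArg Int.cast (CurveCohLib.euler_congr (k := k) ((cl_eq_iff.1 (by
      rw [cl_tensor, cl_tensor, cl_tensorPow L', pow_one])).some))
  have hdeg' : |pair k L' (TauNum.O1 i)| ≤ B := by
    rw [pair_inverse k hdim2 hL hL' hLL' hA, abs_neg]
    exact hdeg
  have hub : ∀ M : X.Modules, PicF.IsInvertible M → |pair k M (TauNum.O1 i)| ≤ B → ∀ s : ℕ, t₀ ≤ s →
      (Curv2.euler k X (CohB1.tensorMod M (CohB1.tensorPow (TauNum.O1 i) s)) : ℚ) ≤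
        (h0 k (CohB1.tensorMod M (CohB1.tensorPow (TauNum.O1 i) s)) : ℚ) := fun M hM hd s hs => by
    have hM' := InvX.isInvertible_tensorMod hM (InvX.isInvertible_tensorPow hA s)
    refine euler_le_h0 k hdim2 hM' (hc₀ _ hM' ?_)
    rw [pair_add k hdim2 hM (InvX.isInvertible_tensorPow hA s) hA, pair_pow k hdim2 hA hA s]
    have : (t₀ : ℚ) * a ≤ s * a := mul_le_mul_of_nonneg_right (Nat.cast_le.2 hs) ha.le
    linarith [neg_abs_le (pair k M (TauNum.O1 i))]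
  have hup : ∀ M : X.Modules, PicF.IsInvertible M → |pair k M (TauNum.O1 i)| ≤ B →
      (Curv2.euler k X (CohB1.tensorMod M (CohB1.tensorPow (TauNum.O1 i) t₀)) : ℚ) ≤ b := fun M hM hd => by
    refine (hub M hM hd t₀ le_rfl).trans (Nat.cast_le.2 (hb _ (InvX.isInvertible_tensorMod hM
      (InvX.isInvertible_tensorPow hA t₀)) ?_))
    rw [pair_add k hdim2 hM (InvX.isInvertible_tensorPow hA t₀) hA, pair_pow k hdim2 hA hA t₀]
    linarith [le_abs_self (pair k M (TauNum.O1 i))]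
  have h1 := hup L hL hdeg
  have h2 := hup L' hL' hdeg'
  rw [hχ] at h1
  rw [hχ'] at h2
  simp only [qf, e2, e5, e0] at h1 h2
  rw [e4] at hdeg
  rw [e3] at hsq
  obtain ⟨l4, u4⟩ := abs_le.1 hdeg
  have ht0 : (0 : ℚ) ≤ t₀ := Nat.cast_nonneg _
  have m4 : |c 4 * (t₀ : ℚ)| ≤ B * t₀ := by
    rw [abs_mul, Nat.abs_cast]
    exact mul_le_mul_of_nonneg_right hdeg ht0
  obtain ⟨l4', u4'⟩ := abs_le.1 m4
  have m2 : -(|cO 2| * (t₀ : ℚ)) ≤ cO 2 * t₀ := by nlinarith [neg_abs_le (cO 2)]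
  have m5 : -(|cO 5| * (t₀ : ℚ) ^ 2) ≤ cO 5 * (t₀ : ℚ) ^ 2 := by nlinarith [neg_abs_le (cO 5), sq_nonneg (t₀ : ℚ)]
  have m0 := neg_abs_le (cO 0)
  have hnn : (0 : ℚ) ≤ |cO 0| ∧ (0 : ℚ) ≤ |cO 2| * t₀ ∧ (0 : ℚ) ≤ |cO 5| * (t₀ : ℚ) ^ 2 ∧ (0 : ℚ) ≤ B * t₀ ∧
      (0 : ℚ) ≤ B ∧ (0 : ℚ) ≤ b := ⟨abs_nonneg _, by positivity, by positivity, by positivity, Nat.cast_nonneg _,
        Nat.cast_nonneg _⟩
  obtain ⟨n0, n2, n5, nB, nB', nb⟩ := hnn
  have hb3 : |c 3| ≤ R := abs_le.2 ⟨by linarith, by linarith⟩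
  have hb1 : |c 1| ≤ R := abs_le.2 ⟨by linarith, by linarith⟩
  obtain ⟨l1, u1⟩ := abs_le.1 hb1
  obtain ⟨l3, u3⟩ := abs_le.1 hb3
  constructor
  · obtain ⟨y, hy⟩ := pair_int k hdim2 hL hA
    rw [e4] at hy
    refine ⟨Curv2.euler k X (CohB1.tensorMod L (CohB1.tensorPow (TauNum.O1 i) 0)), y, ?_, ?_, fun d => ?_⟩
    · have h : |(Curv2.euler k X (CohB1.tensorMod L (CohB1.tensorPow (TauNum.O1 i) 0)) : ℚ)| ≤ K := by
        rw [hχ]
        simp only [qf, e2, e5, e0, Nat.cast_zero, mul_zero, add_zero, zero_pow two_ne_zero, mul_one, one_pow]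
        exact abs_le.2 ⟨by linarith, by linarith [le_abs_self (cO 0)]⟩
      exact_mod_cast h
    · have h : |(y : ℚ)| ≤ K := by
        rw [hy]
        exact abs_le.2 ⟨by linarith, by linarith⟩
      exact_mod_cast h
    · rw [hy, hχ, hχ]
      simp only [qf, e2, e5, e0, Nat.cast_zero]
      ring
  · have h := hub L' hL' hdeg' t ht₁
    rw [hχ'] at h
    simp only [qf, e2, e5, e0] at h
    have ht1 : (1 : ℚ) ≤ t := by exact_mod_cast ht₂
    have k4 : c 4 * (t : ℚ) ≤ B * t := mul_le_mul_of_nonneg_right u4 (by linarith)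
    have k2 : -(|cO 2| * (t : ℚ)) ≤ cO 2 * t := by nlinarith [neg_abs_le (cO 2)]
    have k5 : (|cO 0| + 3 * R + B + |cO 2| + 1) * (t : ℚ) ≤ cO 5 * t * t :=
      mul_le_mul_of_nonneg_right ht₃.le (by linarith)
    have k6 : (|cO 0| + 3 * R + 1) * 1 ≤ (|cO 0| + 3 * R + 1) * (t : ℚ) :=
      mul_le_mul_of_nonneg_left ht1 (by linarith)
    have hpos' : (0 : ℚ) < (h0 k (CohB1.tensorMod L' (CohB1.tensorPow (TauNum.O1 i) t)) : ℚ) := by nlinarith
    exact_mod_cast hpos'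

attribute [local instance] FppfPic.HyperPn.projOver'

include hi in
/-- A family with prescribed linear Hilbert data embedded in a fixed module is bounded. -/
theorem isBounded_piece [Infinite k] (hdim : topologicalKrullDim X = (2 : ℕ)) (E : X.Modules) (hE : Coh.IsCoh E)
    (x y z : ℚ) :
    Pic13.IsBounded k X (fun L : X.Modules => PicF.IsInvertible L ∧
      (∀ d : ℕ, (Curv2.euler k X (CohB1.tensorMod L (CohB1.tensorPow (TauNum.O1 i) d)) : ℚ) = x + y * d + z * (d : ℚ) ^ 2) ∧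
      ∃ f : L ⟶ E, Mono f) := by
  haveI := CurveCohLib.isNoetherian_of_proper (k := k) (X := X)
  have hE' : Coh.IsCoh ((Scheme.Modules.pushforward i).obj E) := QCoh.isCoh_pushforward_finite i hE
  obtain ⟨m₀, hm₀⟩ := Bdd.exists_reg (k := k) (n := n) hE'
  obtain ⟨ψp, hψp⟩ := Bdd.exists_hasPoly (k := k) (n := n) hE'
  let φ : Polynomial ℚ := Polynomial.C x + Polynomial.C y * Polynomial.X + Polynomial.C z * Polynomial.X ^ 2
  obtain ⟨R, hR⟩ := Bdd.exists_regularity_bound (k := k) (n := n) (ψp.natDegree + 1) ψp φ m₀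
    (Polynomial.degree_le_natDegree.trans_lt (by exact_mod_cast Nat.lt_succ_self _))
  refine Bdd.isBounded_mono (Bdd.isBounded_regular i hi R φ) ?_
  rintro L ⟨hL, hd, f, hf⟩
  have hLc := AmpleVan.isCoh_invertible hL
  have hL' : Coh.IsCoh ((Scheme.Modules.pushforward i).obj L) := QCoh.isCoh_pushforward_finite i hLc
  obtain ⟨φp, hφp⟩ := Bdd.exists_hasPoly (k := k) (n := n) hL'
  have hφ : φp = φ := by
    refine Polynomial.eq_of_infinite_eval_eq _ _ (Set.Infinite.mono ?_ (Set.infinite_range_of_injective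
      (f := fun d : ℕ => (d : ℚ)) Nat.cast_injective))
    rintro _ ⟨d, rfl⟩
    show φp.eval ((d : ℕ) : ℚ) = φ.eval ((d : ℕ) : ℚ)
    rw [show ((d : ℕ) : ℚ) = (((d : ℤ)) : ℚ) by norm_cast, ← hφp (d : ℤ), NumTau.euler_twF_push i hi hLc]
    have e : φ.eval (((d : ℤ)) : ℚ) = x + y * d + z * (d : ℚ) ^ 2 := by simp [φ]
    rw [e, ← hd d]
    exact congrArg Int.cast (CurveCohLib.euler_congr (k := k) ((cl_eq_iff.1 (by
      rw [TauNum.cl_twistOn_natCast, cl_tensor, cl_tensorPow])).some))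
  have hreg := hR _ _ ((Scheme.Modules.pushforward i).map f) (Functor.map_mono _ f) hE' hL' hm₀ hψp (hφ ▸ hφp)
  refine ⟨L, ⟨hLc, fun q hq => (FppfPic.MReg.hh_iff k n i _ hLc (R - q) q).2 (hreg q hq), fun d => ?_⟩, ⟨Iso.refl L⟩⟩
  rw [TauNum.eulerCharLE_twistOn i hLc, ← NumTau.euler_twF_push i hi hLc d, hφp d, hφ]

include hi in
/-- Line bundles of bounded degree and square from below form a bounded family. -/
theorem isBounded_surface [Infinite k] (hdim : topologicalKrullDim X = (2 : ℕ)) (B : ℕ) :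
    Pic13.IsBounded k X (fun L : X.Modules => PicF.IsInvertible L ∧
      |pair k L (TauNum.O1 i)| ≤ B ∧ -(B : ℚ) ≤ pair k L L) := by
  classical
  haveI := CurveCohLib.isNoetherian_of_proper (k := k) (X := X)
  have hA := TauNum.isInvertible_O1 i
  obtain ⟨K, t, c5, c2, hnum⟩ := exists_numeric k i hdim B
  have hE := AmpleVan.isCoh_invertible (InvX.isInvertible_tensorPow hA t)
  let Q : ℤ × ℤ → X.Modules → Prop := fun p L => PicF.IsInvertible L ∧
    (∀ d : ℕ, (Curv2.euler k X (CohB1.tensorMod L (CohB1.tensorPow (TauNum.O1 i) d)) : ℚ) =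
      p.1 + (c2 + p.2) * d + c5 * (d : ℚ) ^ 2) ∧ ∃ f : L ⟶ CohB1.tensorPow (TauNum.O1 i) t, Mono f
  have hQ : ∀ s : Finset (ℤ × ℤ), Pic13.IsBounded k X (fun L => ∃ p ∈ s, Q p L) := fun s => by
    induction s using Finset.induction with
    | empty =>
      refine Bdd.isBounded_mono (isBounded_piece k i hi hdim _ hE 0 0 0) fun L hL => ?_
      obtain ⟨p, hp, -⟩ := hL
      exact absurd hp (Finset.notMem_empty p)
    | insert p s _ ih =>
      refine Bdd.isBounded_mono (Bdd.isBounded_or (isBounded_piece k i hi hdim _ hE p.1 (c2 + p.2) c5) ih) ?_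
      rintro L ⟨p', hp', hL⟩
      rcases Finset.mem_insert.1 hp' with rfl | h
      · exact ⟨L, Or.inl hL, ⟨Iso.refl L⟩⟩
      · exact ⟨L, Or.inr ⟨p', h, hL⟩, ⟨Iso.refl L⟩⟩
  refine Bdd.isBounded_mono (hQ (Finset.Icc (-(K : ℤ)) K ×ˢ Finset.Icc (-(K : ℤ)) K)) ?_
  rintro L ⟨hL, hdeg, hsq⟩
  obtain ⟨L', hL', ⟨ε⟩⟩ := H23.PicInv.exists_inverse hL
  have hLL' : PicF.cl L * PicF.cl L' = 1 := cl_mul_eq_one ⟨ε⟩
  obtain ⟨⟨x, y, hx, hy, hd⟩, hsec⟩ := hnum L L' hL hL' hLL' hdeg hsq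
  refine ⟨L, ⟨(x, y), Finset.mem_product.2 ⟨Finset.mem_Icc.2 (abs_le.1 hx), Finset.mem_Icc.2 (abs_le.1 hy)⟩, hL, hd, ?_⟩, ⟨Iso.refl L⟩⟩
  obtain ⟨s, hs⟩ := exists_hom_of_h0_pos k hsec
  haveI : Mono s := InvEnd.mono_of_ne_zero CurveDeg.isInvertible_structureModule
    (InvX.isInvertible_tensorMod hL' (InvX.isInvertible_tensorPow hA t)) s hs
  haveI : Mono ((AmpleVan.tw L).map s) := mono_tw hL s
  obtain ⟨e₁⟩ : Nonempty (L ≅ (AmpleVan.tw L).obj (Coh.structureModule X)) := cl_eq_iff.1 (by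
    show PicF.cl L = PicF.cl (CohB1.tensorMod _ _)
    rw [cl_tensor, one_mul_cl])
  obtain ⟨e₂⟩ : Nonempty ((AmpleVan.tw L).obj (CohB1.tensorMod L' (CohB1.tensorPow (TauNum.O1 i) t)) ≅
      CohB1.tensorPow (TauNum.O1 i) t) := cl_eq_iff.1 (by
    show PicF.cl (CohB1.tensorMod _ _) = _
    rw [cl_tensor, cl_tensor]
    calc _ = (PicF.cl L * PicF.cl L') * PicF.cl (CohB1.tensorPow (TauNum.O1 i) t) := by ac_rfl
      _ = _ := by rw [hLL', one_mul])
  exact ⟨e₁.hom ≫ (AmpleVan.tw L).map s ≫ e₂.hom, mono_comp _ _⟩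

include hi in
/-- Finitely many numerical classes of bounded degree and square from below. -/
theorem exists_surface_reps [IsAlgClosed k] (hdim : topologicalKrullDim X = (2 : ℕ)) (B : ℕ) :
    ∃ (q : ℕ) (R : Fin q → X.Modules), (∀ j, PicF.IsInvertible (R j)) ∧
      ∀ L, PicF.IsInvertible L → |pair k L (TauNum.O1 i)| ≤ B → -(B : ℚ) ≤ pair k L L →
        ∃ (j : Fin q) (D : X.Modules), NumTau.NT k D ∧ PicF.cl L = PicF.cl (R j) * PicF.cl D := by
  obtain ⟨q, R, hR, h⟩ := NumTau.exists_num_reps (NumTau.isAmple_O1 i) (fun L h => h.1)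
    (isBounded_surface k i hi hdim B)
  exact ⟨q, R, fun j => (hR j).1, fun L h1 h2 h3 => h L ⟨h1, h2, h3⟩⟩

end Groth.Agent.SurfBdd

end
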