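import Groth.Agent.SurfBdd.Sections

/-!
# Vanishing of the second cohomology in large degree
-/

set_option autoImplicit false
set_option linter.style.haveILetI false
set_option linter.unusedSectionVars false
set_option backward.isDefEq.respectTransparency false
set_option backward.isDefEq.respectTransparency.types false
set_option maxHeartbeats 1000000
attribute [-instance] CategoryTheory.catToReflQuiver

universe u

open CategoryTheory CategoryTheory.Limits AlgebraicGeometry TopologicalSpace Opposite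
open Groth.Agent.H23.PicMul

noncomputable section

namespace Groth.Agent.SurfBdd

open Groth.Agent Groth.Agent.Big

variable (k : Type u) [Field k] {X : Scheme.{u}} [X.Over (Spec (CommRingCat.of k))]
  [IsProper (X ↘ Spec (CommRingCat.of k))] [IsIntegral X]

include k in
theorem Quad_indep (hdim : topologicalKrullDim X ≤ 2) {L L' D : X.Modules} {c c' : Fin 6 → ℚ}
    (h : Quad k L D c) (h' : Quad k L' D c') : c 2 = c' 2 ∧ c 5 = c' 5 ∧ c 0 = c' 0 := by
  have e : ∀ b : ℕ, qf c 0 b = qf c' 0 b := fun b => by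
    rw [← Nat.cast_zero, ← h 0 b, ← h' 0 b]
    exact congrArg Int.cast (CurveCohLib.euler_congr (k := k) ((cl_eq_iff.1 (by
      rw [cl_tensor, cl_tensor, cl_tensorPow L 0, cl_tensorPow L' 0, pow_zero, pow_zero])).some))
  have h0 := e 0
  have h1 := e 1
  have h2 := e 2
  simp only [qf, Nat.cast_zero, Nat.cast_one, Nat.cast_ofNat] at h0 h1 h2
  refine ⟨?_, ?_, ?_⟩ <;> linarith

include k in
/-- `h²` vanishes for classes of large degree. -/
theorem exists_h2_vanish (hdim : topologicalKrullDim X = (2 : ℕ)) {A : X.Modules} (hA : CohB1.IsAmple A)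
    (s : Coh.structureModule X ⟶ A) (hs : s ≠ 0) :
    ∃ c₀ : ℚ, ∀ N : X.Modules, PicF.IsInvertible N → c₀ < pair k N A → h2 k N = 0 := by
  classical
  haveI := CurveCohLib.isNoetherian_of_proper (k := k) (X := X)
  haveI : Mono s := InvEnd.mono_of_ne_zero CurveDeg.isInvertible_structureModule hA.1 s hs
  obtain ⟨D, hD, ⟨ε⟩⟩ := H23.PicInv.exists_inverse hA.1
  have hAD : PicF.cl A * PicF.cl D = 1 := cl_mul_eq_one ⟨ε⟩
  have hdim2 : topologicalKrullDim X ≤ ((2 : ℕ) : WithBot ℕ∞) := hdim.le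
  have hQ : Coh.IsCoh (cokernel s) :=
    QCoh.isCoh_cokernel (QCoh.isCoh_structureModule' (X := X)).1 (AmpleVan.isCoh_invertible hA.1) s
  have hTd := dim_cokSupp k (d := 1) hdim hA.1 s hs
  obtain ⟨C, hC⟩ := bdC k hQ (T := cokSupp s) subset_closure hTd 0
  obtain ⟨cO, hcO⟩ := exists_quad k hdim2 (CurveDeg.isInvertible_structureModule (X := X)) hD
  obtain ⟨j₀, hj₀⟩ := AmpleVan.exists_vanishing (A := k) hA (QCoh.isCoh_structureModule' (X := X))
  refine ⟨2 * cO 2 + C, fun N hN hlt => ?_⟩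
  obtain ⟨c, hc⟩ := exists_quad k hdim2 hN hD
  have hc2 : c 2 = cO 2 := (Quad_indep k hdim2 hc hcO).1
  have hc4 : pair k N A = -c 4 := by
    have h1 := (pair_eq_of_quad k hdim2 hN hD hc).1
    rw [pair_symm k, pair_inverse k hdim2 hA.1 hD hAD hN, pair_symm k] at h1
    linarith
  let M : ℕ → X.Modules := fun i => CohB1.tensorMod N (CohB1.tensorPow D i)
  have hMi : ∀ i, PicF.IsInvertible (M i) := fun i =>
    InvX.isInvertible_tensorMod hN (InvX.isInvertible_tensorPow hD i)
  have hM : ∀ i : ℕ, (Curv2.euler k X (M i) : ℚ) = qf c 1 i := fun i => by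
    rw [← Nat.cast_one, ← hc 1 i]
    exact congrArg Int.cast (CurveCohLib.euler_congr (k := k) ((cl_eq_iff.1 (by
      show PicF.cl (CohB1.tensorMod _ _) = _
      rw [cl_tensor, cl_tensor, cl_tensorPow N, pow_one])).some))
  have hcA : Quad k A N (qflip (qswap c)) := (hc.symm k).flip k hdim2 hD hN hA.1 (by rw [mul_comm, hAD])
  have hχA : ∀ j, j₀ ≤ j → (h0 k (CohB1.tensorPow A j) : ℚ) = qf c 0 (-(j : ℚ)) := fun j hj => by
    have h := hcA j 0
    rw [qf_qflip, qf_qswap, Nat.cast_zero] at h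
    rw [← h, h0_congr_cl k (N := CohB1.tensorMod (Coh.structureModule X) (CohB1.tensorPow A j))
      (by rw [cl_tensor, one_mul_cl])]
    have e := CurveCohLib.euler_congr (k := k) (cl_eq_iff.1 (show
      PicF.cl (CohB1.tensorMod (CohB1.tensorPow A j) (CohB1.tensorPow N 0)) =
        PicF.cl (CohB1.tensorMod (Coh.structureModule X) (CohB1.tensorPow A j)) by
      rw [cl_tensor, cl_tensor, cl_tensorPow N, pow_zero, mul_one, one_mul_cl])).some
    rw [e, Euler.euler_eq_sum k (CohB1.tensorMod (Coh.structureModule X) (CohB1.tensorPow A j)) 1 fun i hi => by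
      obtain ⟨l, rfl⟩ := Nat.exists_eq_add_of_le' hi
      exact hj₀ j hj l]
    simp [h0]
  let T := (Snapper.finite_topPts (C := cokSupp s) hTd).toFinset
  obtain ⟨i₀, hi₀⟩ := exists_nat_gt (∑ ξ ∈ T, |cdeg k (curveι ξ) N|)
  have hdeg : ∀ i, i₀ ≤ i → h0 k (CohB1.tensorMod (cokernel s) (M i)) ≤ C := fun i hi =>
    hC (M i) (hMi i) fun Z ι _ hZi hZd hr => by
      haveI := hZi
      rw [cdeg_eq_curveι k ι]
      set η := ι (genericPoint Z)
      have hη : η ∈ T := by
        refine (Set.Finite.mem_toFinset _).2 ⟨hr ⟨_, rfl⟩, ?_⟩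
        rw [← QCoh.range_eq_closure ι, ← AmpleDev.dim_eq_one_of_closedImmersion ι rfl]
        exact hZd.trans Nat.cast_one.symm
      haveI := isIntegral_curve η
      have hd := dim_curve ((Set.Finite.mem_toFinset _).1 hη).2
      have hp : ∀ t : ℕ, cdeg k (curveι η) (CohB1.tensorMod N (CohB1.tensorPow D t)) =
          cdeg k (curveι η) N - t * cdeg k (curveι η) A := fun t => by
        induction t with
        | zero =>
          rw [Nat.cast_zero, zero_mul, sub_zero]
          exact cdeg_congr k _ (by rw [cl_tensor, cl_tensorPow, pow_zero, mul_one])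
        | succ t ih =>
          rw [cdeg_congr k _ (show _ = PicF.cl (CohB1.tensorMod (CohB1.tensorMod N (CohB1.tensorPow D t)) D) by
            simp only [cl_tensor, cl_tensorPow, pow_succ, mul_assoc]),
            cdeg_add k _ hd.le (hMi t) hD, cdeg_inverse k _ hd.le hA.1 hD hAD, ih]
          push_cast
          ring
      rw [hp i]
      have hA1 : (1 : ℚ) ≤ cdeg k (curveι η) A := by
        have h := RealForm.cdeg_pos_of_ample k hA (curveι η) (hd.trans Nat.cast_one)
        rw [cdeg_eq] at h ⊢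
        rw [← Int.cast_sub] at h ⊢
        exact_mod_cast Int.add_one_le_iff.2 (show (0 : ℤ) < _ from by exact_mod_cast h)
      have h1 : |cdeg k (curveι η) N| ≤ ∑ ξ ∈ T, |cdeg k (curveι ξ) N| :=
        Finset.single_le_sum (f := fun ξ => |cdeg k (curveι ξ) N|) (fun _ _ => abs_nonneg _) hη
      have h2 : (i₀ : ℚ) ≤ i := Nat.cast_le.2 hi
      rw [Nat.cast_zero]
      nlinarith [le_abs_self (cdeg k (curveι η) N), mul_le_mul_of_nonneg_left hA1 (Nat.cast_nonneg (α := ℚ) i)]
  let v : ℕ → ℚ := fun i => (h2 k (M i) : ℚ) - qf c 1 i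
  have hstep : ∀ i, i₀ ≤ i → v (i + 1) ≤ v i + C := fun i hi => by
    have hS := shortExact_tw (shortExact_cokernel s) (hMi (i + 1))
    have hMq := AmpleVan.isCoh_invertible (hMi (i + 1))
    have hle := h2_sub_euler_le k hS (AmpleVan.isCoh_tensor QCoh.isCoh_structureModule' hMq)
      (AmpleVan.isCoh_tensor (AmpleVan.isCoh_invertible hA.1) hMq) (AmpleVan.isCoh_tensor hQ hMq) (T := cokSupp s)
      ((support_tensorMod_comm hMq.1 hQ.1).trans subset_closure) hTd
    simp only [ShortComplex.map_X₁, ShortComplex.map_X₂, ShortComplex.map_X₃] at hle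
    have e1 : PicF.cl (CohB1.tensorMod (Coh.structureModule X) (M (i + 1))) = PicF.cl (M (i + 1)) := by
      rw [cl_tensor, one_mul_cl]
    have e2 : PicF.cl (CohB1.tensorMod A (M (i + 1))) = PicF.cl (M i) := by
      show PicF.cl (CohB1.tensorMod A (CohB1.tensorMod N (CohB1.tensorPow D (i + 1)))) =
        PicF.cl (CohB1.tensorMod N (CohB1.tensorPow D i))
      simp only [cl_tensor, cl_tensorPow, pow_succ]
      calc _ = (PicF.cl A * PicF.cl D) * (PicF.cl N * PicF.cl D ^ i) := by ac_rfl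
        _ = _ := by rw [hAD, one_mul]
    have hb : (h0 k (CohB1.tensorMod (cokernel s) (M (i + 1))) : ℚ) ≤ C :=
      Nat.cast_le.2 (hdeg (i + 1) (Nat.le_succ_of_le hi))
    have f1 : h2 k ((AmpleVan.tw (M (i + 1))).obj (Coh.structureModule X)) = h2 k (M (i + 1)) := h2_congr_cl k e1
    have f2 : h2 k ((AmpleVan.tw (M (i + 1))).obj A) = h2 k (M i) := h2_congr_cl k e2
    have g1 : (Curv2.euler k X ((AmpleVan.tw (M (i + 1))).obj (Coh.structureModule X)) : ℚ) = qf c 1 (i + 1 : ℕ) := by
      rw [← hM (i + 1)]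
      exact congrArg Int.cast (CurveCohLib.euler_congr (k := k) (cl_eq_iff.1 e1).some)
    have g2 : (Curv2.euler k X ((AmpleVan.tw (M (i + 1))).obj A) : ℚ) = qf c 1 i := by
      rw [← hM i]
      exact congrArg Int.cast (CurveCohLib.euler_congr (k := k) (cl_eq_iff.1 e2).some)
    rw [f1, f2, g1, g2] at hle
    show (h2 k (M (i + 1)) : ℚ) - qf c 1 (i + 1 : ℕ) ≤ (h2 k (M i) : ℚ) - qf c 1 i + C
    exact hle.trans (add_le_add le_rfl hb)
  by_contra hne
  have hlow : ∀ j, j₀ ≤ j → qf c 0 (-(j : ℚ)) - qf c 1 j ≤ v j := fun j hj => by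
    have h := h0_le_h2 k hdim2 (InvX.isInvertible_tensorPow hA.1 j) (hMi j) (P := N) (by
      simp only [M, cl_tensor, cl_tensorPow]
      rw [mul_left_comm, ← mul_pow, hAD, one_pow, mul_one]) (Nat.pos_of_ne_zero hne)
    have h' : (h0 k (CohB1.tensorPow A j) : ℚ) ≤ (h2 k (M j) : ℚ) := Nat.cast_le.2 h
    rw [hχA j hj] at h'
    show _ ≤ (h2 k (M j) : ℚ) - qf c 1 j
    linarith
  have hup : ∀ t : ℕ, v (i₀ + t) ≤ v i₀ + C * (t : ℚ) := fun t => by
    induction t with
    | zero => simp
    | succ t ih =>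
      refine (hstep (i₀ + t) (Nat.le_add_right _ _)).trans ?_
      push_cast
      linarith
  obtain ⟨J, hJ⟩ := exists_linear_lt (v i₀ - C * (i₀ : ℚ) + c 1 + c 3) (-(2 * c 2 + c 4 + C)) (by linarith)
  have hjle : i₀ ≤ max (max i₀ j₀) J := le_trans (le_max_left _ _) (le_max_left _ _)
  obtain ⟨t, ht⟩ := Nat.exists_eq_add_of_le hjle
  have h1 := hlow (i₀ + t) (ht ▸ le_trans (le_max_right _ _) (le_max_left _ _))
  have h2' := hup t
  have h3 := hJ (i₀ + t) (ht ▸ le_max_right _ _)
  simp only [qf, Nat.cast_add] at h1 h3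
  nlinarith

end Groth.Agent.SurfBdd

end
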